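import Groth.Agent.S4580
import Mathlib.RingTheory.Smooth.Locus
import Mathlib.RingTheory.RingHom.Smooth
import Mathlib.Algebra.MvPolynomial.PDeriv

/-!
# Smoothness of affine hypersurfaces
-/

set_option linter.style.haveILetI false

universe u

open MvPolynomial

noncomputable section

namespace GrothLib.HypSurf

variable {k : Type u} [Field k] {r : ℕ}

theorem derivation_apply_eq_sum (D : Derivation k (MvPolynomial (Fin r) k) (MvPolynomial (Fin r) k))
    (g : MvPolynomial (Fin r) k) : D g = ∑ i, D (X i) * pderiv i g := by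
  classical
  have h : D = ∑ i, D (X i) • pderiv i := by
    refine MvPolynomial.derivation_ext fun j => ?_
    rw [← Derivation.coeFnAddMonoidHom_apply, ← Derivation.coeFnAddMonoidHom_apply, map_sum, Finset.sum_apply,
      Finset.sum_eq_single j]
    · simp
    · intro i _ hi; simp [pderiv_X_of_ne (Ne.symm hi)]
    · simp
  conv_lhs => rw [h]
  rw [← Derivation.coeFnAddMonoidHom_apply, map_sum, Finset.sum_apply]
  exact Finset.sum_congr rfl fun i _ => rfl

/-- The Jacobian criterion for an affine hypersurface over a field. -/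
theorem smooth_hypersurface_iff (g : MvPolynomial (Fin r) k) (hg : g ≠ 0) :
    Algebra.Smooth k (MvPolynomial (Fin r) k ⧸ Ideal.span {g}) ↔
      ∀ q : Ideal (MvPolynomial (Fin r) k), q.IsPrime → g ∈ q → ∃ i, pderiv i g ∉ q := by
  classical
  let J : Ideal (MvPolynomial (Fin r) k) := Ideal.span {g}
  have hfp : Algebra.FinitePresentation k (MvPolynomial (Fin r) k ⧸ J) :=
    Algebra.FinitePresentation.quotient ⟨{g}, by simp [J]⟩
  have hloc : ∀ (q : Ideal (MvPolynomial (Fin r) k)) [q.IsPrime], g ∈ q →
      [(q.map (Ideal.Quotient.mk J)).IsPrime] →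
      (Algebra.FormallySmooth k (Localization.AtPrime (q.map (Ideal.Quotient.mk J))) ↔ ∃ i, pderiv i g ∉ q) := by
    intro q _ hgq _
    have hJq : J ≤ q := (Ideal.span_singleton_le_iff_mem _).2 hgq
    rw [Groth.Agent.S4580.result (k₀ := k) (k := k) r J q hJq]
    constructor
    · rintro ⟨m, f, D, hfJ, hspan, hdet⟩
      by_contra hall
      push Not at hall
      have hDg : ∀ D : Derivation k (MvPolynomial (Fin r) k) (MvPolynomial (Fin r) k), D g ∈ q := fun D => by
        rw [derivation_apply_eq_sum D g]
        exact q.sum_mem fun i _ => q.mul_mem_left _ (hall i)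
      rcases m.eq_zero_or_pos with rfl | hm
      · have hinj : Function.Injective (algebraMap (MvPolynomial (Fin r) k) (Localization.AtPrime q)) :=
          IsLocalization.injective (M := q.primeCompl) _ q.primeCompl_le_nonZeroDivisors
        have h1 : algebraMap (MvPolynomial (Fin r) k) (Localization.AtPrime q) g ∈
            J.map (algebraMap (MvPolynomial (Fin r) k) (Localization.AtPrime q)) :=
          Ideal.mem_map_of_mem _ (Ideal.mem_span_singleton_self g)
        rw [hspan] at h1
        simp only [Set.range_eq_empty, Ideal.span_empty, Ideal.mem_bot] at h1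
        exact hg (hinj (h1.trans (map_zero _).symm))
      · refine hdet ?_
        rw [Matrix.det_apply]
        refine q.sum_mem fun σ _ => ?_
        rw [Units.smul_def, zsmul_eq_mul]
        refine q.mul_mem_left _ ?_
        refine q.prod_mem (Finset.mem_univ (⟨0, hm⟩ : Fin m)) ?_
        obtain ⟨c, hc⟩ := Ideal.mem_span_singleton'.1 (hfJ (σ ⟨0, hm⟩))
        show D ⟨0, hm⟩ (f (σ ⟨0, hm⟩)) ∈ q
        rw [← hc, Derivation.leibniz, smul_eq_mul, smul_eq_mul]
        exact q.add_mem (q.mul_mem_left _ (hDg _)) (q.mul_mem_right _ hgq)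
    · rintro ⟨i, hi⟩
      refine ⟨1, fun _ => g, fun _ => pderiv i, fun _ => Ideal.mem_span_singleton_self g, ?_, ?_⟩
      · rw [Ideal.map_span, Set.image_singleton, Set.range_const]
      · simpa using hi
  constructor
  · intro hsm q hq hgq
    haveI := hq
    have hker : RingHom.ker (Ideal.Quotient.mk J) ≤ q := by
      rw [Ideal.mk_ker]; exact (Ideal.span_singleton_le_iff_mem _).2 hgq
    haveI hp : (q.map (Ideal.Quotient.mk J)).IsPrime :=
      Ideal.map_isPrime_of_surjective Ideal.Quotient.mk_surjective hker
    refine (hloc q hgq).1 ?_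
    haveI := hsm
    have h := (Algebra.smoothLocus_eq_univ (R := k) (A := MvPolynomial (Fin r) k ⧸ J)).symm ▸
      Set.mem_univ (⟨q.map (Ideal.Quotient.mk J), hp⟩ : PrimeSpectrum (MvPolynomial (Fin r) k ⧸ J))
    exact h
  · intro h
    haveI := hfp
    haveI : Algebra.FormallySmooth k (MvPolynomial (Fin r) k ⧸ J) := by
      rw [← Algebra.smoothLocus_eq_univ_iff]
      refine Set.eq_univ_of_forall fun p => ?_
      let q := p.asIdeal.comap (Ideal.Quotient.mk J)
      haveI : q.IsPrime := Ideal.IsPrime.comap _
      have hgq : g ∈ q := by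
        show Ideal.Quotient.mk J g ∈ p.asIdeal
        rw [Ideal.Quotient.eq_zero_iff_mem.2 (Ideal.mem_span_singleton_self g)]
        exact zero_mem _
      have hmap : q.map (Ideal.Quotient.mk J) = p.asIdeal :=
        Ideal.map_comap_of_surjective _ Ideal.Quotient.mk_surjective _
      haveI : (q.map (Ideal.Quotient.mk J)).IsPrime := hmap ▸ p.isPrime
      have h' := (hloc q hgq).2 (h q inferInstance hgq)
      have key : ∀ (P : Ideal (MvPolynomial (Fin r) k ⧸ J)) (hP : P.IsPrime), P = p.asIdeal →
          Algebra.FormallySmooth k (Localization.AtPrime P) → p ∈ Algebra.smoothLocus k (MvPolynomial (Fin r) k ⧸ J) := by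
        rintro _ hP rfl hs; exact hs
      exact key _ inferInstance hmap h'
    exact {}

end GrothLib.HypSurf
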