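import Groth.Agent.Lib.CurveMult.PnMap
import Groth.Agent.Lib.HypSurf.AffSmooth

/-!
# Smoothness of projective hypersurfaces, chart by chart
-/

set_option linter.style.haveILetI false
set_option backward.isDefEq.respectTransparency false

universe u

open CategoryTheory CategoryTheory.Limits AlgebraicGeometry TopologicalSpace Opposite
open GrothLib.Ample (res)
open GrothLib.CurveMult

noncomputable section

namespace GrothLib.HypSurf

variable {k : Type u} [Field k] {n : ℕ}

/-- Setting the coordinate `j` to one. -/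
def subst (j : Fin (n + 1)) : MvPolynomial (Fin (n + 1)) k →ₐ[k] MvPolynomial (Fin n) k :=
  MvPolynomial.aeval (Fin.insertNth j 1 MvPolynomial.X)

/-- The affine space as a chart. -/
def emb (j : Fin (n + 1)) : MvPolynomial (Fin n) k →+* Γ(CohB1.ProjSpace n k, LefPen.chart n k j) :=
  (Proj.awayToSection (CohB1.polyGrading n k) (MvPolynomial.X j)).hom.comp
    (MvPolynomial.eval₂Hom (Ample.ProjMap.cst (MvPolynomial.X j))
      fun l => Ample.ProjMap.ratio j (j.succAbove l))

theorem emb_subst (j : Fin (n + 1)) (G : MvPolynomial (Fin (n + 1)) k) :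
    emb j (subst j G) = PnMap.χ k j G := by
  show (Proj.awayToSection (CohB1.polyGrading n k) (MvPolynomial.X j)).hom _ =
    (Proj.awayToSection (CohB1.polyGrading n k) (MvPolynomial.X j)).hom _
  refine congrArg _ ?_
  have : (MvPolynomial.eval₂Hom (Ample.ProjMap.cst (R := k) (MvPolynomial.X j))
      fun l => Ample.ProjMap.ratio j (j.succAbove l)).comp (subst j).toRingHom =
      MvPolynomial.eval₂Hom (Ample.ProjMap.cst (MvPolynomial.X j)) (Ample.ProjMap.ratio j) := by
    refine MvPolynomial.ringHom_ext (fun r => by simp [subst]) fun l => ?_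
    obtain rfl | ⟨m, rfl⟩ := Fin.eq_self_or_eq_succAbove j l
    · simp [subst, SepImm.ratio_self]
    · simp [subst]
  exact RingHom.congr_fun this G

theorem emb_bijective (j : Fin (n + 1)) : Function.Bijective (emb (k := k) j) := by
  have hb : Function.Bijective (Proj.awayToSection (CohB1.polyGrading n k) (MvPolynomial.X j)).hom :=
    Proj.basicOpenIsoAway_hom (CohB1.polyGrading n k) _ (Ample.ProjMap.X_mem j) one_pos ▸
      (ConcreteCategory.bijective_of_isIso
        (Proj.basicOpenIsoAway (CohB1.polyGrading n k) _ (Ample.ProjMap.X_mem j) one_pos).hom)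
  refine ⟨?_, fun w => ?_⟩
  · have hu : IsUnit ((subst (k := k) j).toRingHom (MvPolynomial.X j)) := by simp [subst]
    let ev := ProjPt.evalAway (CohB1.polyGrading n k) (subst (k := k) j).toRingHom (MvPolynomial.X j) hu
    have hid : ev.comp (MvPolynomial.eval₂Hom (Ample.ProjMap.cst (MvPolynomial.X j))
        fun l => Ample.ProjMap.ratio j (j.succAbove l)) = RingHom.id _ := by
      refine MvPolynomial.ringHom_ext (fun r => ?_) fun l => ?_
      · simp only [RingHom.comp_apply, MvPolynomial.eval₂Hom_C, RingHom.id_apply, ev]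
        rw [Ample.ProjMap.evalAway_cst]
        simp [subst]
      · simp only [RingHom.comp_apply, MvPolynomial.eval₂Hom_X', RingHom.id_apply, ev]
        have h := Ample.ProjMap.evalAway_ratio (subst (k := k) j).toRingHom j (j.succAbove l) hu
        simpa [subst] using h
    intro a b hab
    have h := congrArg ev (hb.1 hab)
    rw [← RingHom.comp_apply, ← RingHom.comp_apply, hid] at h
    exact h
  · obtain ⟨G, rfl⟩ := PnMap.χ_surjective k j w
    exact ⟨subst j G, emb_subst j G⟩

/-- A chart of a hypersurface is smooth exactly when its affine equation is. -/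
theorem smooth_chart_iff {d : ℕ} (G : LefPen.Form n k d) (j : Fin (n + 1)) :
    Smooth ((LefPen.hypIdeal G).subschemeCover.f ⟨LefPen.chart n k j, isAffineOpen_chart j⟩ ≫
        (LefPen.hypIdeal G).subschemeι ≫ CohB1.ProjSpace.toSpec n k) ↔
      Algebra.Smooth k (MvPolynomial (Fin n) k ⧸ Ideal.span {subst j G.1}) := by
  let I := LefPen.hypIdeal G
  let U : (CohB1.ProjSpace n k).affineOpens := ⟨LefPen.chart n k j, isAffineOpen_chart j⟩
  let cst : k →+* Γ(CohB1.ProjSpace n k, U.1) :=
    (res (le_top : U.1 ≤ ⊤)).comp (ProjUP.toGlobal (CohB1.ProjSpace.toSpec n k))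
  have hcomp : I.subschemeCover.f U ≫ I.subschemeι ≫ CohB1.ProjSpace.toSpec n k =
      Spec.map (CommRingCat.ofHom ((Ideal.Quotient.mk (I.ideal U)).comp cst)) := by
    rw [← Category.assoc, Scheme.IdealSheafData.subschemeCover_map_subschemeι,
      Scheme.IdealSheafData.glueDataObjι_ι, Category.assoc, CommRingCat.ofHom_comp, Spec.map_comp]
    congr 1
    have heq : ∀ (q : CohB1.ProjSpace n k ⟶ Spec (CommRingCat.of k)), q = (CohB1.ProjSpace n k).toSpecΓ ≫
        Spec.map ((Scheme.ΓSpecIso (CommRingCat.of k)).inv ≫ q.appTop) := fun q => by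
      rw [Spec.map_comp, ← Category.assoc, ← Scheme.toSpecΓ_naturality, Category.assoc]
      simp
    conv_lhs => rw [heq (CohB1.ProjSpace.toSpec n k)]
    rw [← Category.assoc, IsAffineOpen.fromSpec_toSpecΓ, ← Spec.map_comp]
    rfl
  rw [hcomp, HasRingHomProperty.Spec_iff (P := @Smooth), CommRingCat.hom_ofHom]
  letI : Algebra k (Γ(CohB1.ProjSpace n k, U.1) ⧸ I.ideal U) := ((Ideal.Quotient.mk (I.ideal U)).comp cst).toAlgebra
  show RingHom.Smooth (algebraMap k (Γ(CohB1.ProjSpace n k, U.1) ⧸ I.ideal U)) ↔ _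
  rw [RingHom.smooth_algebraMap]
  let e : MvPolynomial (Fin n) k ≃+* Γ(CohB1.ProjSpace n k, U.1) := RingEquiv.ofBijective _ (emb_bijective j)
  have hI : I.ideal U = (Ideal.span {subst j G.1}).map (e : MvPolynomial (Fin n) k →+* Γ(CohB1.ProjSpace n k, U.1)) := by
    rw [hypIdeal_ideal_eq G U j le_rfl, Ample.res_self, Ideal.map_span, Set.image_singleton]
    show _ = Ideal.span {emb j (subst j G.1)}
    rw [emb_subst, PnMap.χ_form]
  let eq : (MvPolynomial (Fin n) k ⧸ Ideal.span {subst j G.1}) ≃+* (Γ(CohB1.ProjSpace n k, U.1) ⧸ I.ideal U) :=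
    Ideal.quotientEquiv _ _ e hI
  let ea : (MvPolynomial (Fin n) k ⧸ Ideal.span {subst j G.1}) ≃ₐ[k] (Γ(CohB1.ProjSpace n k, U.1) ⧸ I.ideal U) :=
    AlgEquiv.ofRingEquiv (f := eq) fun c => by
      show Ideal.Quotient.mk _ (emb j (MvPolynomial.C c)) = Ideal.Quotient.mk _ (cst c)
      refine congrArg _ ?_
      show (Proj.awayToSection (CohB1.polyGrading n k) (MvPolynomial.X j)).hom _ = _
      rw [MvPolynomial.eval₂Hom_C]
      exact SepImm.awayToSection_cst j c
  constructor <;> intro h <;> haveI := h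
  · exact Algebra.Smooth.of_equiv ea.symm
  · exact Algebra.Smooth.of_equiv ea

/-- A cover by charts on which the hypersurface may be tested for smoothness. -/
theorem smooth_of_cover {d : ℕ} (G : LefPen.Form n k d) {ι : Type u}
    (U : ι → (CohB1.ProjSpace n k).affineOpens) (hU : ⨆ i, (U i).1 = ⊤)
    (h : ∀ i, Smooth ((LefPen.hypIdeal G).subschemeCover.f (U i) ≫
        (LefPen.hypIdeal G).subschemeι ≫ CohB1.ProjSpace.toSpec n k)) :
    Smooth ((LefPen.hypIdeal G).subschemeι ≫ CohB1.ProjSpace.toSpec n k) := by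
  let I := LefPen.hypIdeal G
  refine (IsZariskiLocalAtSource.iff_of_openCover (P := @Smooth)
    (I.subscheme.openCoverOfIsOpenCover (fun i => I.subschemeι ⁻¹ᵁ (U i).1) ?_)).2 fun i => ?_
  · refine IsOpenCover.mk ?_
    rw [← Scheme.Hom.preimage_iSup, hU, Scheme.Hom.preimage_top]
  · show Smooth ((I.subschemeι ⁻¹ᵁ (U i).1).ι ≫ _)
    have hr : Set.range (I.subschemeι ⁻¹ᵁ (U i).1).ι = Set.range (I.subschemeCover.f (U i)) := by
      rw [Scheme.Opens.range_ι]
      exact congrArg (fun V : I.subscheme.Opens => (V : Set I.subscheme)) (I.opensRange_subschemeCover_map (U i)).symm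
    rw [← IsOpenImmersion.isoOfRangeEq_hom_fac (I.subschemeι ⁻¹ᵁ (U i).1).ι (I.subschemeCover.f (U i)) hr,
      Category.assoc]
    haveI : Smooth (I.subschemeCover.f (U i) ≫ I.subschemeι ≫ CohB1.ProjSpace.toSpec n k) := h i
    infer_instance

end GrothLib.HypSurf
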