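import Groth.Agent.Lib.HypSurf.HypIdeal
import Groth.Agent.Lib.CMReg.ClosedSeq
import Groth.Agent.Lib.GrTilde.Mul
import Groth.Agent.Lib.GrTilde.Sections
import Groth.Agent.Lib.ProjDim.Const
import Groth.Prelude.Def_Twist2

/-!
# The sequence `0 → O(-d) → O → i_* O_H → 0` of a hypersurface
-/

set_option linter.style.haveILetI false
set_option backward.isDefEq.respectTransparency false

universe u

open CategoryTheory CategoryTheory.Limits AlgebraicGeometry TopologicalSpace Opposite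
open GrothLib.InvExt (mres IsGen)
open GrothLib.Ample (res)
open GrothLib.Ample.ProjTwist (ev evT)
open GrothLib.GrTilde (mulSect fracT)

noncomputable section

namespace GrothLib.HypSurf

section General

variable {R A : Type u} [CommRing R] [CommRing A] [Algebra R A] {𝒜 : ℕ → Submodule R A} [GradedAlgebra 𝒜]
  {d : ℕ} (G : 𝒜 d)

theorem one_nin {V : (Proj 𝒜).Opens} (y : V) : (1 : A) ∉ y.1.asHomogeneousIdeal :=
  fun h => y.1.isPrime.ne_top ((Ideal.eq_top_iff_one _).mpr h)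

/-- The form as a section of `O(d)`. -/
def gT (V : (Proj 𝒜).Opens) : Γ(Twist.twist 𝒜 (d : ℤ), V) :=
  fracT (G : A) 1 G.2 SetLike.GradedOne.one_mem one_nin (by simp)

theorem exists_rep (V : (Proj 𝒜).Opens) (m : Γ(Twist.twist 𝒜 (-(d : ℤ)), V)) (x : V) :
    ∃ (U : (Proj 𝒜).Opens) (_ : x.1 ∈ U) (hU : U ≤ V) (p q : ℕ) (a s : A) (_ : a ∈ 𝒜 p) (_ : s ∈ 𝒜 q)
      (nin : ∀ y : U, s ∉ y.1.asHomogeneousIdeal) (_ : (p : ℤ) = q + 0 ∨ a = 0),
      ∀ y : U, evT ⟨y.1, hU y.2⟩ (gT G V) * evT ⟨y.1, hU y.2⟩ m = Localization.mk a ⟨s, nin y⟩ := by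
  obtain ⟨U, hx, i, p, q, ⟨a, ha⟩, ⟨s, hs⟩, nin, hd, hw⟩ :=
    (show Twist.sectN (-(d : ℤ)) (op V) from m).2 x
  replace hd : (p : ℤ) = q + -(d : ℤ) ∨ a = 0 := hd
  refine ⟨U, hx, leOfHom i, d + p, q, G.1 * a, s, SetLike.mul_mem_graded G.2 ha, hs, nin, ?_, fun y => ?_⟩
  · rcases hd with hd | hd
    · left; push_cast; omega
    · right; rw [hd, mul_zero]
  · rw [show evT ⟨y.1, leOfHom i y.2⟩ m = _ from hw y, gT, GrTilde.evT_fracT, Localization.mk_mul]
    refine Localization.mk_eq_mk_iff.2 (Localization.r_iff_exists.2 ⟨1, ?_⟩)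
    simp

/-- Multiplication by the form on sections. -/
def mulApp (V : (Proj 𝒜).Opens) (m : Γ(Twist.twist 𝒜 (-(d : ℤ)), V)) : Γ(Twist.twist 𝒜 0, V) :=
  show Twist.sectN 0 (op V) from
  ⟨fun x => ⟨evT x (gT G V) * evT x m, by
      obtain ⟨U, hx, hU, p, q, a, s, ha, hs, nin, hd, hw⟩ := exists_rep G V m x
      rw [show evT x (gT G V) * evT x m = _ from hw ⟨x.1, hx⟩]
      rcases hd with hd | hd
      · exact Submodule.subset_span ⟨p, q, ⟨a, ha⟩, ⟨s, hs⟩, nin ⟨x.1, hx⟩, hd, rfl⟩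
      · rw [hd, Localization.mk_zero]; exact zero_mem _⟩,
    fun x => by
      obtain ⟨U, hx, hU, p, q, a, s, ha, hs, nin, hd, hw⟩ := exists_rep G V m x
      exact ⟨U, hx, homOfLE hU, p, q, ⟨a, ha⟩, ⟨s, hs⟩, nin, hd, hw⟩⟩

theorem evT_mulApp (V : (Proj 𝒜).Opens) (m : Γ(Twist.twist 𝒜 (-(d : ℤ)), V)) (y : V) :
    evT y (mulApp G V m) = evT y (gT G V) * evT y m := rfl

theorem mulApp_add (V : (Proj 𝒜).Opens) (a b : Γ(Twist.twist 𝒜 (-(d : ℤ)), V)) :
    mulApp G V (a + b) = mulApp G V a + mulApp G V b :=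
  Ample.ProjTwist.evT_ext fun y => by
    show evT y (gT G V) * (evT y a + evT y b) = evT y (mulApp G V a) + evT y (mulApp G V b)
    rw [evT_mulApp, evT_mulApp, mul_add]

theorem mulApp_smul (V : (Proj 𝒜).Opens) (c : Γ(Proj 𝒜, V)) (a : Γ(Twist.twist 𝒜 (-(d : ℤ)), V)) :
    mulApp G V (c • a) = c • mulApp G V a :=
  Ample.ProjTwist.evT_ext fun y => by
    rw [evT_mulApp, Ample.ProjTwist.evT_smul, Ample.ProjTwist.evT_smul, evT_mulApp]
    exact mul_left_comm _ _ _

theorem mulApp_res {V W : (Proj 𝒜).Opens} (h : W ≤ V) (a : Γ(Twist.twist 𝒜 (-(d : ℤ)), V)) :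
    mulApp G W (mres (Twist.twist 𝒜 (-(d : ℤ))) h a) = mres (Twist.twist 𝒜 0) h (mulApp G V a) :=
  Ample.ProjTwist.evT_ext fun y => by
    rw [evT_mulApp, Ample.ProjTwist.evT_mres, Ample.ProjTwist.evT_mres, evT_mulApp]
    rfl

/-- Multiplication by the form `O(-d) → O(0)`. -/
def mulG : Twist.twist 𝒜 (-(d : ℤ)) ⟶ Twist.twist 𝒜 0 :=
  ⟨{
    app := fun V => ModuleCat.ofHom
      (X := ((Twist.twist 𝒜 (-(d : ℤ))).val.obj V : Type u))
      (Y := ((Twist.twist 𝒜 0).val.obj V : Type u))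
      { toFun := fun (m : Γ(Twist.twist 𝒜 (-(d : ℤ)), V.unop)) => mulApp G V.unop m
        map_add' := fun a b => mulApp_add G V.unop a b
        map_smul' := fun (c : Γ(Proj 𝒜, V.unop)) (a : Γ(Twist.twist 𝒜 (-(d : ℤ)), V.unop)) =>
          mulApp_smul G V.unop c a }
    naturality := fun {V W} f => by
      ext (m : Γ(Twist.twist 𝒜 (-(d : ℤ)), V.unop))
      exact mulApp_res G (leOfHom f.unop) m }⟩

theorem mulG_app {V : (Proj 𝒜).Opens} (m : Γ(Twist.twist 𝒜 (-(d : ℤ)), V)) (y : V) :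
    evT y ((mulG G).app V m) = evT y (gT G V) * evT y m := rfl

/-- The image of an invertible fraction. -/
theorem mulG_fracT {V : (Proj 𝒜).Opens} {q : ℕ} {Q : A} (hQ : Q ∈ 𝒜 q)
    (ninQ : ∀ y : V, Q ∉ y.1.asHomogeneousIdeal) (hd : ((0 : ℕ) : ℤ) = q + -(d : ℤ)) (y : V) :
    evT y ((mulG G).app V (fracT (1 : A) Q SetLike.GradedOne.one_mem hQ ninQ hd)) =
      Localization.mk (G : A) ⟨Q, ninQ y⟩ := by
  rw [mulG_app, gT, GrTilde.evT_fracT, GrTilde.evT_fracT, Localization.mk_mul]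
  exact Localization.mk_eq_mk_iff.2 (Localization.r_iff_exists.2 ⟨1, by simp⟩)

end General

variable {r : ℕ} {k : Type u} [Field k] {d : ℕ} (G : LefPen.Form r k d)

local notation "P" => CohB1.polyGrading r k

/-- On a chart `D₊(T_j)` the image of the generator is the dehomogenised form. -/
theorem mulG_gen (j : Fin (r + 1)) {T : (Proj P).Opens} (hT : T ≤ LefPen.chart r k j) :
    (mulG G).app T (fracT (k := -(d : ℤ)) (1 : MvPolynomial (Fin (r + 1)) k) (MvPolynomial.X j ^ d)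
        SetLike.GradedOne.one_mem (SetLike.pow_mem_graded d (LefPen.X_mem r k j)) (fun y => fun h => hT y.2 (y.1.isPrime.mem_of_pow_mem _ h))
        (by simp)) =
      res hT (LefPen.dehom G j) • (show Γ(Twist.twist P 0, T) from
        fracT (1 : MvPolynomial (Fin (r + 1)) k) 1 SetLike.GradedOne.one_mem SetLike.GradedOne.one_mem one_nin (by simp)) := by
  refine Ample.ProjTwist.evT_ext fun y => ?_
  rw [mulG_fracT, Ample.ProjTwist.evT_smul, Ample.ProjTwist.ev_res, ev_dehom, GrTilde.evT_fracT,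
    Localization.mk_mul]
  exact Localization.mk_eq_mk_iff.2 (Localization.r_iff_exists.2 ⟨1, by simp⟩)

/-- The ideal sequence of a hypersurface. -/
theorem exists_idealSeq (hG : G ≠ 0) :
    ∃ (ι : Twist.twistProjSpace r k (-(d : ℤ)) ⟶ Coh.structureModule (CohB1.ProjSpace r k))
      (w : ι ≫ ClSub.unitToPush (LefPen.hypIdeal G).subschemeι = 0),
      (ShortComplex.mk ι (ClSub.unitToPush (LefPen.hypIdeal G).subschemeι) w).ShortExact := by
  classical
  obtain ⟨e0⟩ := GrTilde.nonempty_structureModule_iso_twist_zero P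
  let j0 := (LefPen.hypIdeal G).subschemeι
  let ι : Twist.twistProjSpace r k (-(d : ℤ)) ⟶ Coh.structureModule (CohB1.ProjSpace r k) := mulG G ≫ e0.inv
  -- generators on a chart
  have key : ∀ (j : Fin (r + 1)) (T : (CohB1.ProjSpace r k).Opens) (hT : T ≤ LefPen.chart r k j),
      ∃ g : Γ(Twist.twist P (-(d : ℤ)), T), ∃ v : Γ(CohB1.ProjSpace r k, T), IsUnit v ∧
        (Function.Bijective fun c : Γ(CohB1.ProjSpace r k, T) => c • g) ∧
        ∀ c : Γ(CohB1.ProjSpace r k, T), (show Γ(CohB1.ProjSpace r k, T) from ι.app T (c • g)) = c * v * res hT (LefPen.dehom G j) := by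
    intro j T hT
    let g : Γ(Twist.twist P (-(d : ℤ)), T) := fracT (k := -(d : ℤ)) (1 : MvPolynomial (Fin (r + 1)) k) (MvPolynomial.X j ^ d)
      SetLike.GradedOne.one_mem (SetLike.pow_mem_graded d (LefPen.X_mem r k j))
      (fun y => fun h => hT y.2 (y.1.isPrime.mem_of_pow_mem _ h)) (by simp)
    have hg := GrTilde.isGen_fracT (V := T) (k := -(d : ℤ)) SetLike.GradedOne.one_mem
      (SetLike.pow_mem_graded d (LefPen.X_mem r k j)) one_nin
      (fun y => fun h => hT y.2 (y.1.isPrime.mem_of_pow_mem _ h)) (by simp) T le_rfl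
    simp only [InvExt.mres_self] at hg
    let one0 : Γ(Twist.twist P 0, T) :=
      fracT (1 : MvPolynomial (Fin (r + 1)) k) 1 SetLike.GradedOne.one_mem SetLike.GradedOne.one_mem one_nin (by simp)
    let v : Γ(CohB1.ProjSpace r k, T) := e0.inv.app T one0
    refine ⟨g, v, ?_, hg, fun c => ?_⟩
    · obtain ⟨c, hc⟩ := (GrTilde.bijective_smul_one (𝒜 := P) T).2 (e0.hom.app T (1 : Γ(CohB1.ProjSpace r k, T)))
      refine IsUnit.of_mul_eq_one c ?_
      have h := congrArg (e0.inv.app T) hc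
      rw [mul_comm]
      refine ((Ample.app_smul e0.inv c one0).symm.trans h).trans ?_
      exact congrArg (fun φ : Coh.structureModule (Proj P) ⟶ Coh.structureModule (Proj P) =>
        φ.app T (1 : Γ(CohB1.ProjSpace r k, T))) e0.hom_inv_id
    · show e0.inv.app T ((mulG G).app T (c • g)) = _
      rw [Ample.app_smul, mulG_gen G j hT, smul_smul, Ample.app_smul]
      show c * res hT (LefPen.dehom G j) * v = _
      ring
  have hker : ∀ (T : (CohB1.ProjSpace r k).affineOpens) (j : Fin (r + 1)) (hT : T.1 ≤ LefPen.chart r k j),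
      RingHom.ker (j0.app T.1).hom = Ideal.span {res hT (LefPen.dehom G j)} := fun T j hT => by
    rw [← hypIdeal_ideal_eq G T j hT]
    exact Scheme.IdealSheafData.ker_subschemeι_app _ T
  have hdz : ∀ (j : Fin (r + 1)) (T : (CohB1.ProjSpace r k).Opens) (hT : T ≤ LefPen.chart r k j),
      j0.app T (res hT (LefPen.dehom G j)) = 0 := fun j T hT => by
    have h := (hker ⟨_, isAffineOpen_chart (k := k) j⟩ j le_rfl).ge (Ideal.mem_span_singleton_self _)
    rw [RingHom.mem_ker, Ample.res_self] at h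
    refine (ConcreteCategory.congr_hom (j0.naturality (homOfLE hT).op) (LefPen.dehom G j)).trans ?_
    rw [ConcreteCategory.comp_apply]
    exact (congrArg _ h).trans (map_zero _)
  have hcov : ⨆ j : Fin (r + 1), LefPen.chart r k j = ⊤ := Ample.ProjMap.iSup_basicOpen_X r k
  have w : ι ≫ ClSub.unitToPush j0 = 0 := by
    refine Scheme.Modules.hom_ext _ _ fun U => ?_
    ext (b : Γ(Twist.twist P (-(d : ℤ)), U))
    have hU : ⨆ j : ULift.{u} (Fin (r + 1)), U ⊓ LefPen.chart r k j.down = U :=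
      le_antisymm (iSup_le fun _ => inf_le_left) fun x hx => by
        obtain ⟨j, hj⟩ := Opens.mem_iSup.1 (hcov.ge (Opens.mem_top x))
        exact Opens.mem_iSup.2 ⟨⟨j⟩, hx, hj⟩
    refine Ample.meq_of_cover ((Scheme.Modules.pushforward j0).obj (Coh.structureModule _))
      (fun j : ULift.{u} (Fin (r + 1)) => U ⊓ LefPen.chart r k j.down) (fun _ => inf_le_left) hU.ge fun j => ?_
    refine Eq.trans ?_ (map_zero _).symm
    show mres _ _ ((ι ≫ ClSub.unitToPush j0).app U b) = _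
    rw [← Ample.app_mres]
    obtain ⟨g, v, -, hg, hι⟩ := key j.down (U ⊓ LefPen.chart r k j.down) inf_le_right
    obtain ⟨c, hc⟩ := hg.2 (mres _ (inf_le_left : U ⊓ LefPen.chart r k j.down ≤ U) b)
    show (ClSub.unitToPush j0).app _ (ι.app _ _) = _
    refine (congrArg (fun z => j0.app (U ⊓ LefPen.chart r k j.down) (ι.app (U ⊓ LefPen.chart r k j.down) z)) hc.symm).trans ?_
    refine (congrArg (j0.app (U ⊓ LefPen.chart r k j.down)).hom (hι c)).trans ?_
    rw [map_mul]
    exact mul_eq_zero_of_right _ (hdz j.down _ inf_le_right)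
  refine ⟨ι, w, CMReg.shortExact_of_local j0 ι w fun x => ?_⟩
  obtain ⟨j, hj⟩ := Opens.mem_iSup.1 (hcov.ge (Opens.mem_top x))
  refine ⟨LefPen.chart r k j, hj, fun T hT => ?_⟩
  obtain ⟨g, v, hv, hg, hι⟩ := key j T.1 hT
  refine ⟨fun a a' h => ?_, fun s hs => ?_⟩
  · obtain ⟨c, rfl⟩ := hg.2 a
    obtain ⟨c', rfl⟩ := hg.2 a'
    by_cases hne : Nonempty T.1
    · haveI : IsIntegral (CohB1.ProjSpace r k) := ProjDim.isIntegral_proj k r
      have ht : res hT (LefPen.dehom G j) ≠ 0 := by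
        intro h0
        apply hG
        have h1 : LefPen.dehom G j = 0 :=
          map_injective_of_isIntegral (CohB1.ProjSpace r k) (homOfLE hT) (h0.trans (map_zero _).symm)
        obtain ⟨y⟩ := hne
        have h2 := ev_dehom G j ⟨y.1, hT y.2⟩
        have h3 := ((congrArg (Ample.ProjTwist.ev (⟨y.1, hT y.2⟩ : LefPen.chart r k j)) h1).symm.trans h2).symm.trans
          (show (0 : HomogeneousLocalization.AtPrime P y.1.asHomogeneousIdeal.toIdeal).val = 0 from HomogeneousLocalization.val_zero)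
        rw [Localization.mk_eq_mk', IsLocalization.mk'_eq_zero_iff] at h3
        obtain ⟨⟨m, hm⟩, hm'⟩ := h3
        refine Subtype.ext ((mul_eq_zero.1 hm').resolve_left fun h' => hm ?_)
        rw [show m = 0 from h']
        exact zero_mem _
      have h' : c * v * res hT (LefPen.dehom G j) = c' * v * res hT (LefPen.dehom G j) :=
        (hι c).symm.trans (h.trans (hι c'))
      rw [hv.mul_right_cancel (mul_right_cancel₀ ht h')]
    · have hbot : T.1 = ⊥ := Opens.ext (Set.eq_empty_of_forall_notMem fun z hz => hne ⟨⟨z, hz⟩⟩)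
      haveI : Subsingleton Γ(CohB1.ProjSpace r k, T.1) :=
        CommRingCat.subsingleton_of_isTerminal ((CohB1.ProjSpace r k).sheaf.isTerminalOfEqEmpty hbot)
      rw [Subsingleton.elim c c']
  · have hs' : s ∈ RingHom.ker (j0.app T.1).hom := hs
    rw [hker T j hT, Ideal.mem_span_singleton'] at hs'
    obtain ⟨c, hc⟩ := hs'
    refine ⟨(c * ↑hv.unit⁻¹) • g, ?_⟩
    refine (hι _).trans ?_
    rw [mul_assoc c, hv.val_inv_mul, mul_one]
    exact hc

end GrothLib.HypSurf
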