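import Groth.Prelude.Def_LefPen
import Groth.Agent.Lib.Ample.ProjSections
import Groth.Agent.Lib.Chow.Prod

/-!
# The ideal sheaf of a hypersurface in projective space
-/

set_option linter.style.haveILetI false
set_option backward.isDefEq.respectTransparency false

universe u

open CategoryTheory CategoryTheory.Limits AlgebraicGeometry TopologicalSpace Opposite
open GrothLib.Ample (res)

noncomputable section

namespace GrothLib.HypSurf

variable {r : ℕ} {k : Type u} [Field k] {d : ℕ} (G : LefPen.Form r k d)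

/-- The ratio `T_j / T_i` on the chart of `T_i`. -/
abbrev rat (i j : Fin (r + 1)) : Γ(CohB1.ProjSpace r k, LefPen.chart r k i) :=
  Proj.awayToSection (CohB1.polyGrading r k) (MvPolynomial.X i) (Ample.ProjMap.ratio i j)

theorem ev_dehom (i : Fin (r + 1)) (y : LefPen.chart r k i) :
    Ample.ProjTwist.ev y (LefPen.dehom G i) =
      Localization.mk (G.1 : MvPolynomial (Fin (r + 1)) k)
        ⟨MvPolynomial.X i ^ d, pow_mem (show MvPolynomial.X i ∈ y.1.asHomogeneousIdeal.toIdeal.primeCompl from y.2) d⟩ := by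
  refine (ProjectiveSpectrum.Proj.awayToSection_apply _ _ _ _).trans ?_
  rw [HomogeneousLocalization.Away.val_mk, Localization.mk_eq_mk', IsLocalization.map_mk',
    Localization.mk_eq_mk']
  congr 1

/-- The dehomogenizations agree on overlaps up to a power of the ratio. -/
theorem dehom_change (i j : Fin (r + 1)) {W : (CohB1.ProjSpace r k).Opens} (hi : W ≤ LefPen.chart r k i)
    (hj : W ≤ LefPen.chart r k j) :
    res hi (LefPen.dehom G i) = res hi (rat i j) ^ d * res hj (LefPen.dehom G j) := by
  refine Ample.ProjTwist.ev_ext fun y => ?_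
  erw [Ample.ProjTwist.ev_mul, Ample.ProjTwist.ev_pow, Ample.ProjTwist.ev_res, Ample.ProjTwist.ev_res,
    Ample.ProjTwist.ev_res, ev_dehom, ev_dehom, Ample.ProjMap.ev_awayToSection_ratio, Localization.mk_pow,
    Localization.mk_mul]
  rw [Localization.mk_eq_mk_iff, Localization.r_iff_exists]
  exact ⟨1, by simp only [OneMemClass.coe_one, one_mul, Submonoid.coe_mul, SubmonoidClass.coe_pow]; ring⟩

theorem mem_hypFamily_iff (U : (CohB1.ProjSpace r k).affineOpens) (s : Γ(CohB1.ProjSpace r k, U)) :
    s ∈ LefPen.hypFamily G U ↔ ∀ i, res (inf_le_left : U.1 ⊓ LefPen.chart r k i ≤ U.1) s ∈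
      Ideal.span {res (inf_le_right : U.1 ⊓ LefPen.chart r k i ≤ LefPen.chart r k i) (LefPen.dehom G i)} :=
  Ideal.mem_iInf

/-- Projective space is separated. -/
theorem isSeparated_projSpace : (CohB1.ProjSpace r k).IsSeparated := by
  haveI := Chow.isProper_toSpec r k
  exact ⟨by
    rw [show terminal.from (CohB1.ProjSpace r k) = CohB1.ProjSpace.toSpec r k ≫ terminal.from _ from
      Subsingleton.elim _ _]
    infer_instance⟩

theorem isAffineOpen_chart (i : Fin (r + 1)) : IsAffineOpen (LefPen.chart r k i) :=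
  Proj.isAffineOpen_basicOpen (CohB1.polyGrading r k) _ (MvPolynomial.isHomogeneous_X k i) one_pos

/-- The family defining the hypersurface is an ideal sheaf. -/
theorem map_hypFamily_basicOpen (U : (CohB1.ProjSpace r k).affineOpens) (f : Γ(CohB1.ProjSpace r k, U)) :
    (LefPen.hypFamily G U).map
        ((CohB1.ProjSpace r k).presheaf.map (homOfLE <| (CohB1.ProjSpace r k).basicOpen_le f).op).hom =
      LefPen.hypFamily G ((CohB1.ProjSpace r k).affineBasicOpen f) := by
  classical
  haveI := isSeparated_projSpace (r := r) (k := k)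
  let P := CohB1.ProjSpace r k
  let B := P.basicOpen f
  have hBU : B ≤ U.1 := P.basicOpen_le f
  refine le_antisymm (Ideal.map_le_iff_le_comap.2 fun s hs => (mem_hypFamily_iff G _ _).2 fun i => ?_) fun s hs => ?_
  · obtain ⟨c, hc⟩ := Ideal.mem_span_singleton'.1 ((mem_hypFamily_iff G U s).1 hs i)
    refine Ideal.mem_span_singleton'.2 ⟨res (inf_le_inf_right _ hBU) c, ?_⟩
    have h := congrArg (res (inf_le_inf_right (LefPen.chart r k i) hBU)) hc
    rw [map_mul, Ample.res_res, Ample.res_res] at h
    exact h.trans (Ample.res_res _ _ _).symm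
  haveI := U.2.isLocalization_basicOpen f
  obtain ⟨a, ⟨_, n, rfl⟩, rfl⟩ := IsLocalization.exists_mk'_eq (Submonoid.powers f) s
  have key : ∀ i, ∃ m : ℕ, res (inf_le_left : U.1 ⊓ LefPen.chart r k i ≤ U.1) (f ^ m * a) ∈
      Ideal.span {res (inf_le_right : U.1 ⊓ LefPen.chart r k i ≤ LefPen.chart r k i) (LefPen.dehom G i)} := by
    intro i
    let V := U.1 ⊓ LefPen.chart r k i
    have hV : IsAffineOpen V := U.2.inf (isAffineOpen_chart i)
    let fV := res (inf_le_left : V ≤ U.1) f
    haveI := hV.isLocalization_basicOpen fV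
    have hBV : P.basicOpen fV = B ⊓ LefPen.chart r k i := by
      refine (Scheme.basicOpen_res P f (homOfLE (inf_le_left : V ≤ U.1)).op).trans ?_
      rw [inf_assoc, inf_comm (LefPen.chart r k i) (P.basicOpen f), ← inf_assoc, inf_eq_right.2 hBU]
    have h1 := (mem_hypFamily_iff G (P.affineBasicOpen f) _).1 hs i
    obtain ⟨c, hc⟩ := Ideal.mem_span_singleton'.1 h1
    have hspec := IsLocalization.mk'_spec Γ(P, B) a (⟨f ^ n, n, rfl⟩ : Submonoid.powers f)
    have h2 : algebraMap Γ(P, V) Γ(P, P.basicOpen fV) (res (inf_le_left : V ≤ U.1) a) ∈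
        (Ideal.span {res (inf_le_right : V ≤ LefPen.chart r k i) (LefPen.dehom G i)}).map
          (algebraMap Γ(P, V) Γ(P, P.basicOpen fV)) := by
      rw [Ideal.map_span, Set.image_singleton]
      refine Ideal.mem_span_singleton'.2 ⟨res hBV.le c * res ((P.basicOpen_le fV).trans inf_le_left) (f ^ n), ?_⟩
      have h3 : res hBV.le c * res ((P.basicOpen_le fV).trans inf_le_right) (LefPen.dehom G i) =
          res (hBV.le.trans inf_le_left : P.basicOpen fV ≤ B)
            (IsLocalization.mk' Γ(P, B) a (⟨f ^ n, n, rfl⟩ : Submonoid.powers f)) := by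
        have h := congrArg (res hBV.le) hc
        rw [map_mul] at h
        exact (congrArg (res hBV.le c * ·) (Ample.res_res _ _ _).symm).trans (h.trans (Ample.res_res _ _ _))
      have h4 := congrArg (res (hBV.le.trans inf_le_left : P.basicOpen fV ≤ B)) hspec
      rw [map_mul] at h4
      have e1 : res (hBV.le.trans inf_le_left : P.basicOpen fV ≤ B) (algebraMap Γ(P, U.1) Γ(P, B) (f ^ n)) =
          res ((P.basicOpen_le fV).trans inf_le_left) (f ^ n) := Ample.res_res _ _ _
      have e2 : res (hBV.le.trans inf_le_left : P.basicOpen fV ≤ B) (algebraMap Γ(P, U.1) Γ(P, B) a) =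
          res ((P.basicOpen_le fV).trans inf_le_left) a := Ample.res_res _ _ _
      rw [e1, e2] at h4
      have e3 : ∀ (W : P.Opens) (hW : V ≤ W) (t : Γ(P, W)),
          algebraMap Γ(P, V) Γ(P, P.basicOpen fV) (res hW t) = res ((P.basicOpen_le fV).trans hW) t :=
        fun W hW t => Ample.res_res _ _ _
      rw [e3, e3, mul_right_comm, h3]
      exact h4
    obtain ⟨_, ⟨m, rfl⟩, hm⟩ := (IsLocalization.algebraMap_mem_map_algebraMap_iff (Submonoid.powers fV) _ _ _).1 h2
    refine ⟨m, ?_⟩
    rw [map_mul, map_pow]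
    exact hm
  choose m hm using key
  let M := Finset.univ.sup m
  have hM : f ^ M * a ∈ LefPen.hypFamily G U := (mem_hypFamily_iff G U _).2 fun i => by
    obtain ⟨e, he⟩ := Nat.exists_eq_add_of_le' (show m i ≤ M from Finset.le_sup (f := m) (Finset.mem_univ i))
    rw [he, pow_add, mul_assoc, map_mul]
    exact Ideal.mul_mem_left _ _ (hm i)
  exact (IsLocalization.mk'_mem_map_algebraMap_iff (Submonoid.powers f) _ _ _ _).2 ⟨f ^ M, ⟨M, rfl⟩, hM⟩

/-- The hypersurface ideal sheaf, with its ideals. -/
def hypData : (CohB1.ProjSpace r k).IdealSheafData where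
  ideal := LefPen.hypFamily G
  map_ideal_basicOpen := map_hypFamily_basicOpen G

/-- The ideals of the hypersurface are the defining family. -/
theorem hypIdeal_ideal : (LefPen.hypIdeal G).ideal = LefPen.hypFamily G := by
  show (Scheme.IdealSheafData.ofIdeals (hypData G).ideal).ideal = _
  rw [Scheme.IdealSheafData.ofIdeals_ideal]
  rfl

/-- On an affine open inside a chart the hypersurface is cut out by the dehomogenization. -/
theorem hypIdeal_ideal_eq (U : (CohB1.ProjSpace r k).affineOpens) (j : Fin (r + 1))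
    (hU : U.1 ≤ LefPen.chart r k j) :
    (LefPen.hypIdeal G).ideal U = Ideal.span {res hU (LefPen.dehom G j)} := by
  rw [hypIdeal_ideal]
  refine le_antisymm (fun s hs => ?_) ((Ideal.span_singleton_le_iff_mem _).2 ((mem_hypFamily_iff G U _).2 fun i => ?_))
  · obtain ⟨c, hc⟩ := Ideal.mem_span_singleton'.1 ((mem_hypFamily_iff G U s).1 hs j)
    refine Ideal.mem_span_singleton'.2 ⟨res (le_inf le_rfl hU) c, ?_⟩
    have h := congrArg (res (le_inf le_rfl hU : U.1 ≤ U.1 ⊓ LefPen.chart r k j)) hc
    rw [map_mul, Ample.res_res, Ample.res_res, Ample.res_self] at h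
    exact h
  · rw [Ample.res_res, dehom_change G j i ((inf_le_left : U.1 ⊓ LefPen.chart r k i ≤ U.1).trans hU) inf_le_right]
    exact Ideal.mul_mem_left _ _ (Ideal.mem_span_singleton_self _)

end GrothLib.HypSurf
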